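import Mathlib
import Groth.Agent.Lib.Helper9.FE.ClopenIdem
import Groth.Agent.Lib.Helper9.WEtField.Basic

/-!
# The scheme of connected components of a connected scheme locally of finite type over a field

For a connected scheme `Z` locally of finite type over a field `k`, the separable elements of
`Γ(Z, ⊤)` form a field `L`, finite and separable over `k`, and `Z ⟶ Spec L` is initial among
`k`-morphisms from `Z` to étale `k`-schemes.
-/

set_option autoImplicit false
set_option linter.unusedSectionVars false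
set_option linter.unusedVariables false
set_option linter.style.haveILetI false
set_option maxHeartbeats 800000
set_option synthInstance.maxHeartbeats 400000

open AlgebraicGeometry CategoryTheory Limits
open Groth.Agent.Helper9.WEtField

namespace Groth.Agent.Helper6.Pi0

universe u

section Alg

variable {k : Type u} [Field k] {A : Type u} [CommRing A] [Algebra k A] [Nontrivial A]

/-- In a ring without nontrivial idempotents, the separable elements form a field. -/
theorem isField_sepSub (hidem : ∀ e : A, IsIdempotentElem e → e = 0 ∨ e = 1) :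
    IsField (sepSub k A) := by
  refine ⟨⟨0, 1, ?_⟩, mul_comm, ?_⟩
  · intro h
    have h' := congrArg Subtype.val h
    exact zero_ne_one h'
  · rintro ⟨t, ht⟩ ht0
    have htL : IsSepElem k (⟨t, ht⟩ : sepSub k A) :=
      IsSepElem.of_map (sepSub k A).val Subtype.val_injective
        (show IsSepElem k ((sepSub k A).val ⟨t, ht⟩) from ht)
    obtain ⟨⟨y, hyL⟩, hy⟩ := exists_eq_sq_mul_of_isSepElem htL
    have hy' : t = t * t * y := congrArg Subtype.val hy
    have he : IsIdempotentElem (t * y) := by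
      show t * y * (t * y) = t * y
      calc t * y * (t * y) = (t * t * y) * y := by ring
        _ = t * y := by rw [← hy']
    rcases hidem _ he with h0 | h1
    · exfalso
      apply ht0
      apply Subtype.ext
      show t = 0
      calc t = t * t * y := hy'
        _ = t * (t * y) := by ring
        _ = 0 := by rw [h0, mul_zero]
    · exact ⟨⟨y, hyL⟩, Subtype.ext h1⟩

theorem isSeparable_of_isSepElem {a : A} (h : IsSepElem k a) : IsSeparable k a := by
  obtain ⟨f, hf, h0⟩ := h
  show (minpoly k a).Separable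
  exact hf.of_dvd (minpoly.dvd k a h0)

/-- The field of separable elements, packaged abstractly. -/
theorem exists_sepField (hidem : ∀ e : A, IsIdempotentElem e → e = 0 ∨ e = 1) :
    ∃ (L : Type u) (_ : Field L) (_ : Algebra k L) (j : L →ₐ[k] A),
      Function.Injective j ∧ Algebra.IsSeparable k L ∧
        ∀ a : A, IsSepElem k a → a ∈ Set.range j := by
  letI : Field (sepSub k A) := (isField_sepSub hidem).toField
  refine ⟨sepSub k A, inferInstance, inferInstance, (sepSub k A).val, Subtype.val_injective,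
    ?_, ?_⟩
  · refine ⟨fun x => ?_⟩
    have h := isSeparable_of_isSepElem (k := k) (show IsSepElem k (x : A) from x.2)
    unfold IsSeparable at h ⊢
    rwa [← minpoly.algHom_eq (sepSub k A).val Subtype.val_injective x]
  · intro a ha
    exact ⟨⟨a, ha⟩, rfl⟩

theorem finite_of_algHom {L : Type u} [Field L] [Algebra k L] (j : L →ₐ[k] A)
    {κ : Type u} [Field κ] [Algebra k κ] [Module.Finite k κ] (ρ : A →ₐ[k] κ) :
    Module.Finite k L := by
  have hinj : Function.Injective ((ρ.comp j : L →ₐ[k] κ) : L →+* κ) := RingHom.injective _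
  exact Module.Finite.of_injective (ρ.comp j).toLinearMap (fun x y h => hinj h)

end Alg

section Sch

variable {k : Type u} [Field k]

/-- idempotent functions on a connected scheme are trivial. -/
theorem idem_eq_zero_or_one {Z : Scheme.{u}} [PreconnectedSpace Z] (e : Γ(Z, ⊤))
    (he : IsIdempotentElem e) : e = 0 ∨ e = 1 := by
  have hcl := H9FE.isClopen_basicOpen_of_idem e he
  rcases isClopen_iff.1 hcl with h | h
  · left
    have h0 : Z.basicOpen e = ⊥ := TopologicalSpace.Opens.ext (by simpa using h)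
    have h1 : Z.basicOpen (1 - e) = ⊤ := by
      have := H9FE.basicOpen_sup_one_sub e
      rwa [h0, bot_sup_eq] at this
    have h2 := H9FE.eq_one_of_idem_of_basicOpen_eq_top (1 - e) he.one_sub h1
    have : e = 1 - (1 - e) := by ring
    rw [this, h2, sub_self]
  · right
    exact H9FE.eq_one_of_idem_of_basicOpen_eq_top e he
      (TopologicalSpace.Opens.ext (by simpa using h))

set_option backward.isDefEq.respectTransparency.types false in
/-- étale morphisms are locally quasi-finite -/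
theorem lqf_of_etale {X Y : Scheme.{u}} (f : X ⟶ Y) [Etale f] : LocallyQuasiFinite f := by
  rw [HasRingHomProperty.iff_appLE (P := @LocallyQuasiFinite)]
  intro U V e
  have h1 := (HasRingHomProperty.iff_appLE (P := @FormallyUnramified)).mp inferInstance U V e
  have h2 := (HasRingHomProperty.iff_appLE (P := @LocallyOfFiniteType)).mp inferInstance U V e
  algebraize [(f.appLE U V e).hom]
  rw [← RingHom.algebraMap_toAlgebra (f.appLE U V e).hom, RingHom.quasiFinite_algebraMap]
  infer_instance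

/-- the structure ring homomorphism `k → Γ(Z, ⊤)` of a `k`-scheme -/
noncomputable def kΓ {Z : Scheme.{u}} (fZ : Z ⟶ Spec (CommRingCat.of k)) : k →+* Γ(Z, ⊤) :=
  ((Scheme.ΓSpecIso (CommRingCat.of k)).inv ≫ fZ.appTop).hom

theorem kΓ_comp {Z W : Scheme.{u}} (h : Z ⟶ W) (fW : W ⟶ Spec (CommRingCat.of k)) :
    kΓ (h ≫ fW) = h.appTop.hom.comp (kΓ fW) := by
  unfold kΓ
  rw [Scheme.Hom.comp_appTop, ← Category.assoc]
  rfl

theorem toSpecΓ_map_kΓ {Z : Scheme.{u}} (fZ : Z ⟶ Spec (CommRingCat.of k)) :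
    Z.toSpecΓ ≫ Spec.map (CommRingCat.ofHom (kΓ fZ)) = fZ := by
  unfold kΓ
  rw [CommRingCat.ofHom_hom, Spec.map_comp, ← Scheme.toSpecΓ_naturality_assoc,
    toSpecΓ_SpecMap_ΓSpecIso_inv, Category.comp_id]

theorem ΓSpecIso_inv_hom_apply (R : CommRingCat.{u}) (c : Γ(Spec R, ⊤)) :
    (Scheme.ΓSpecIso R).inv.hom ((Scheme.ΓSpecIso R).hom.hom c) = c :=
  congrArg (fun φ => φ.hom c) (Scheme.ΓSpecIso R).hom_inv_id

theorem ΓSpecIso_hom_inv_apply (R : CommRingCat.{u}) (c : R) :
    (Scheme.ΓSpecIso R).hom.hom ((Scheme.ΓSpecIso R).inv.hom c) = c :=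
  congrArg (fun φ => φ.hom c) (Scheme.ΓSpecIso R).inv_hom_id

/-- The data of the scheme of connected components of a connected `k`-scheme. -/
structure Pi0Data (k : Type u) [Field k] (Z : Scheme.{u}) (fZ : Z ⟶ Spec (CommRingCat.of k)) where
  L : Type u
  [fld : Field L]
  [alg : Algebra k L]
  g : Z ⟶ Spec (CommRingCat.of L)
  fin : Module.Finite k L
  sep : Algebra.IsSeparable k L
  comm : g ≫ Spec.map (CommRingCat.ofHom (algebraMap k L)) = fZ
  epi : ∀ (Y : Scheme.{u}) (t₁ t₂ : Spec (CommRingCat.of L) ⟶ Y), g ≫ t₁ = g ≫ t₂ → t₁ = t₂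
  up : ∀ (Y : Scheme.{u}) (gY : Y ⟶ Spec (CommRingCat.of k)) (h : Z ⟶ Y), Etale gY →
    h ≫ gY = fZ → ∃ t : Spec (CommRingCat.of L) ⟶ Y,
      t ≫ gY = Spec.map (CommRingCat.ofHom (algebraMap k L)) ∧ g ≫ t = h

attribute [instance] Pi0Data.fld Pi0Data.alg

theorem nonempty_pi0Data {Z : Scheme.{u}} [ConnectedSpace Z] (fZ : Z ⟶ Spec (CommRingCat.of k))
    [LocallyOfFiniteType fZ] : Nonempty (Pi0Data k Z fZ) := by
  obtain ⟨z₀⟩ : Nonempty Z := inferInstance
  letI : Algebra k Γ(Z, ⊤) := (kΓ fZ).toAlgebra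
  haveI : Nonempty (⊤ : Z.Opens) := ⟨⟨z₀, trivial⟩⟩
  haveI : Nontrivial Γ(Z, ⊤) := Scheme.component_nontrivial Z ⊤
  have hidem : ∀ e : Γ(Z, ⊤), IsIdempotentElem e → e = 0 ∨ e = 1 :=
    fun e he => idem_eq_zero_or_one e he
  obtain ⟨L, hL, hkL, j, hjinj, hsep, hrange⟩ :=
    exists_sepField (k := k) (A := Γ(Z, ⊤)) hidem
  letI := hL
  letI := hkL
  haveI := hsep
  obtain ⟨g, hg⟩ : ∃ g : Z ⟶ Spec (CommRingCat.of L),
      g = Z.toSpecΓ ≫ Spec.map (CommRingCat.ofHom (j : L →+* Γ(Z, ⊤))) := ⟨_, rfl⟩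
  have hgtop : g.appTop = (Scheme.ΓSpecIso (CommRingCat.of L)).hom ≫
      CommRingCat.ofHom (j : L →+* Γ(Z, ⊤)) := by
    rw [hg, Scheme.Hom.comp_appTop, Scheme.toSpecΓ_appTop, Scheme.ΓSpecIso_naturality]
  have hgk : g ≫ Spec.map (CommRingCat.ofHom (algebraMap k L)) = fZ := by
    rw [hg, Category.assoc, ← Spec.map_comp, ← CommRingCat.ofHom_comp]
    have h1 : (j : L →+* Γ(Z, ⊤)).comp (algebraMap k L) = kΓ fZ := by
      ext c
      exact j.commutes c
    rw [h1]
    exact toSpecΓ_map_kΓ fZ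
  have hginj : Function.Injective g.appTop.hom := by
    rw [hgtop]
    intro a b hab
    have h5 : j ((Scheme.ΓSpecIso (CommRingCat.of L)).hom.hom a) =
        j ((Scheme.ΓSpecIso (CommRingCat.of L)).hom.hom b) := hab
    have h6 := hjinj h5
    have h7 := congrArg (Scheme.ΓSpecIso (CommRingCat.of L)).inv.hom h6
    rwa [ΓSpecIso_inv_hom_apply, ΓSpecIso_inv_hom_apply] at h7
  have hpt : ∀ p : ↥(Spec (CommRingCat.of L)), p = g z₀ := fun p => Subsingleton.elim _ _
  -- finiteness
  have hfin : Module.Finite k L := by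
    obtain ⟨_, ⟨W, hW, rfl⟩, hzW, -⟩ := Z.isBasis_affineOpens.exists_subset_of_mem_open
      (Set.mem_univ z₀) isOpen_univ
    have hft : (fZ.appLE ⊤ W le_top).hom.FiniteType :=
      HasRingHomProperty.appLE @LocallyOfFiniteType fZ inferInstance
        ⟨⊤, isAffineOpen_top _⟩ ⟨W, hW⟩ le_top
    haveI : Nonempty (W : Z.Opens) := ⟨⟨z₀, hzW⟩⟩
    haveI : Nontrivial Γ(Z, W) := Scheme.component_nontrivial Z W
    obtain ⟨m, hm⟩ := Ideal.exists_maximal Γ(Z, W)
    haveI := hm
    obtain ⟨ρ₀, hρ₀⟩ : ∃ ρ₀ : Γ(Z, ⊤) →+* Γ(Z, W) ⧸ m,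
        ρ₀ = (Ideal.Quotient.mk m).comp (Z.presheaf.map (homOfLE le_top).op).hom := ⟨_, rfl⟩
    have hθ : (ρ₀.comp (kΓ fZ)).FiniteType := by
      have h2 : ρ₀.comp (kΓ fZ) = ((Ideal.Quotient.mk m).comp (fZ.appLE ⊤ W le_top).hom).comp
          (Scheme.ΓSpecIso (CommRingCat.of k)).inv.hom := by
        rw [hρ₀]
        rfl
      rw [h2]
      refine RingHom.FiniteType.comp (RingHom.FiniteType.comp ?_ hft) ?_
      · exact RingHom.FiniteType.of_surjective _ Ideal.Quotient.mk_surjective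
      · apply RingHom.FiniteType.of_surjective
        intro x
        exact ⟨(Scheme.ΓSpecIso (CommRingCat.of k)).hom.hom x, ΓSpecIso_inv_hom_apply _ x⟩
    letI : Field (Γ(Z, W) ⧸ m) := Ideal.Quotient.field m
    letI : Algebra k (Γ(Z, W) ⧸ m) := (ρ₀.comp (kΓ fZ)).toAlgebra
    haveI : Algebra.FiniteType k (Γ(Z, W) ⧸ m) := hθ
    haveI : Module.Finite k (Γ(Z, W) ⧸ m) := finite_of_finite_type_of_isJacobsonRing k _
    exact finite_of_algHom j { ρ₀ with commutes' := fun c => rfl }
  refine ⟨Pi0Data.mk (L := L) g hfin hsep hgk ?_ ?_⟩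
  · -- `g` is an epimorphism
    intro Y t₁ t₂ h12
    obtain ⟨V, hV, hyV⟩ : ∃ V : Y.Opens, IsAffineOpen V ∧ t₁ (g z₀) ∈ V := by
      obtain ⟨_, ⟨V, hV, rfl⟩, hyV, -⟩ := Y.isBasis_affineOpens.exists_subset_of_mem_open
        (Set.mem_univ (t₁ (g z₀))) isOpen_univ
      exact ⟨V, hV, hyV⟩
    have hr₁ : Set.range t₁ ⊆ Set.range V.ι := by
      rw [Scheme.Opens.range_ι]
      rintro _ ⟨p, rfl⟩
      rw [hpt p]
      exact hyV
    have hr₂ : Set.range t₂ ⊆ Set.range V.ι := by
      rw [Scheme.Opens.range_ι]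
      rintro _ ⟨p, rfl⟩
      rw [hpt p, ← Scheme.Hom.comp_apply, ← h12, Scheme.Hom.comp_apply]
      exact hyV
    have e₁ := IsOpenImmersion.lift_fac V.ι t₁ hr₁
    have e₂ := IsOpenImmersion.lift_fac V.ι t₂ hr₂
    haveI : IsAffine (V : Scheme.{u}) := hV
    have hlift : IsOpenImmersion.lift V.ι t₁ hr₁ = IsOpenImmersion.lift V.ι t₂ hr₂ := by
      apply ext_of_isAffine
      have h3 : g ≫ IsOpenImmersion.lift V.ι t₁ hr₁ = g ≫ IsOpenImmersion.lift V.ι t₂ hr₂ := by
        rw [← cancel_mono V.ι, Category.assoc, Category.assoc, e₁, e₂, h12]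
      have h4 := congrArg Scheme.Hom.appTop h3
      rw [Scheme.Hom.comp_appTop, Scheme.Hom.comp_appTop] at h4
      apply CommRingCat.hom_ext
      apply RingHom.ext
      intro b
      apply hginj
      exact congrArg (fun φ => φ.hom b) h4
    rw [← e₁, ← e₂, hlift]
  · -- the universal property
    intro Y gY h hEt hcomm
    haveI := hEt
    haveI : LocallyQuasiFinite gY := lqf_of_etale gY
    haveI : DiscreteTopology Y := by
      have hd := gY.isDiscrete_preimage_singleton (gY (h z₀))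
      have huniv : (gY ⁻¹' {gY (h z₀)} : Set Y) = Set.univ := by
        apply Set.eq_univ_of_forall
        intro y
        exact Subsingleton.elim _ _
      rw [huniv] at hd
      exact isDiscrete_univ_iff.mp hd
    have hsub : ∀ z : Z, h z = h z₀ := by
      intro z
      have hpre : _root_.IsPreconnected (Set.range h) := isPreconnected_range h.continuous
      exact hpre.subsingleton ⟨z, rfl⟩ ⟨z₀, rfl⟩
    obtain ⟨V, hV, hyV⟩ : ∃ V : Y.Opens, IsAffineOpen V ∧ h z₀ ∈ V := by
      obtain ⟨_, ⟨V, hV, rfl⟩, hyV, -⟩ := Y.isBasis_affineOpens.exists_subset_of_mem_open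
        (Set.mem_univ (h z₀)) isOpen_univ
      exact ⟨V, hV, hyV⟩
    have hr : Set.range h ⊆ Set.range V.ι := by
      rw [Scheme.Opens.range_ι]
      rintro _ ⟨z, rfl⟩
      rw [hsub z]
      exact hyV
    obtain ⟨h', hh'⟩ : ∃ h' : Z ⟶ (V : Scheme.{u}), h' ≫ V.ι = h :=
      ⟨IsOpenImmersion.lift V.ι h hr, IsOpenImmersion.lift_fac V.ι h hr⟩
    haveI : IsAffine (V : Scheme.{u}) := hV
    obtain ⟨gV, hgV⟩ : ∃ gV : (V : Scheme.{u}) ⟶ Spec (CommRingCat.of k), gV = V.ι ≫ gY :=
      ⟨_, rfl⟩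
    haveI : Etale gV := by
      rw [hgV]
      infer_instance
    have hh'g : h' ≫ gV = fZ := by
      rw [hgV, ← Category.assoc, hh', hcomm]
    letI : Algebra k Γ((V : Scheme.{u}), ⊤) := (kΓ gV).toAlgebra
    haveI : Algebra.Etale k Γ((V : Scheme.{u}), ⊤) := by
      have h1 : (gV.appTop).hom.Etale :=
        (HasRingHomProperty.iff_of_isAffine (P := @Etale)).mp inferInstance
      have h2 : (kΓ gV).Etale :=
        RingHom.Etale.respectsIso.2 (gV.appTop).hom
          (Scheme.ΓSpecIso (CommRingCat.of k)).symm.commRingCatIsoToRingEquiv h1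
      exact h2
    obtain ⟨ψ, hψ⟩ : ∃ ψ : Γ((V : Scheme.{u}), ⊤) →ₐ[k] Γ(Z, ⊤),
        ∀ b, ψ b = h'.appTop.hom b := by
      refine ⟨{ h'.appTop.hom with commutes' := fun c => ?_ }, fun b => rfl⟩
      have h1 := kΓ_comp h' gV
      rw [hh'g] at h1
      exact (congrArg (fun φ => φ c) h1).symm
    have hmem : ∀ b, ψ b ∈ j.range := by
      intro b
      have hb : IsSepElem k b := isSepElem_of_etale b
      obtain ⟨l, hl⟩ := hrange _ (hb.map ψ)
      exact (AlgHom.mem_range j).mpr ⟨l, hl⟩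
    obtain ⟨ψ', hψ'⟩ : ∃ ψ' : Γ((V : Scheme.{u}), ⊤) →ₐ[k] L, ∀ b, j (ψ' b) = ψ b := by
      refine ⟨((AlgEquiv.ofInjective j hjinj).symm : j.range →ₐ[k] L).comp
        (ψ.codRestrict j.range hmem), ?_⟩
      intro b
      have h1 : ∀ y : j.range, j ((AlgEquiv.ofInjective j hjinj).symm y) = y := by
        intro y
        have h2 := (AlgEquiv.ofInjective j hjinj).apply_symm_apply y
        exact congrArg Subtype.val h2
      exact h1 _
    obtain ⟨t, ht⟩ : ∃ t : Spec (CommRingCat.of L) ⟶ Y,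
        t = Spec.map (CommRingCat.ofHom (ψ' : Γ((V : Scheme.{u}), ⊤) →+* L)) ≫
          (V : Scheme.{u}).isoSpec.inv ≫ V.ι := ⟨_, rfl⟩
    refine ⟨t, ?_, ?_⟩
    · have h1 : (V : Scheme.{u}).isoSpec.inv ≫ gV = Spec.map (CommRingCat.ofHom (kΓ gV)) := by
        rw [Iso.inv_comp_eq, Scheme.isoSpec_hom]
        exact (toSpecΓ_map_kΓ gV).symm
      have h2 : (ψ' : Γ((V : Scheme.{u}), ⊤) →+* L).comp (kΓ gV) = algebraMap k L := by
        ext c
        exact ψ'.commutes c
      rw [ht, Category.assoc, Category.assoc, ← hgV, h1, ← Spec.map_comp,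
        ← CommRingCat.ofHom_comp, h2]
    · have h1 : (CommRingCat.ofHom (ψ' : Γ((V : Scheme.{u}), ⊤) →+* L)) ≫
          CommRingCat.ofHom (j : L →+* Γ(Z, ⊤)) = h'.appTop := by
        apply CommRingCat.hom_ext
        apply RingHom.ext
        intro b
        show j (ψ' b) = h'.appTop.hom b
        rw [hψ' b, hψ b]
      have e1 : Spec.map (CommRingCat.ofHom (j : L →+* Γ(Z, ⊤))) ≫
          Spec.map (CommRingCat.ofHom (ψ' : Γ((V : Scheme.{u}), ⊤) →+* L)) =
          Spec.map h'.appTop := by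
        rw [← Spec.map_comp, h1]
      have e2 : Z.toSpecΓ ≫ Spec.map h'.appTop = h' ≫ (V : Scheme.{u}).toSpecΓ :=
        (Scheme.toSpecΓ_naturality h').symm
      have e3 : (V : Scheme.{u}).toSpecΓ ≫ (V : Scheme.{u}).isoSpec.inv = 𝟙 _ := by
        rw [← Scheme.isoSpec_hom, Iso.hom_inv_id]
      calc g ≫ t = Z.toSpecΓ ≫ (Spec.map (CommRingCat.ofHom (j : L →+* Γ(Z, ⊤))) ≫
            Spec.map (CommRingCat.ofHom (ψ' : Γ((V : Scheme.{u}), ⊤) →+* L))) ≫
            (V : Scheme.{u}).isoSpec.inv ≫ V.ι := by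
            rw [hg, ht]
            simp only [Category.assoc]
        _ = (Z.toSpecΓ ≫ Spec.map h'.appTop) ≫ (V : Scheme.{u}).isoSpec.inv ≫ V.ι := by
            rw [e1, Category.assoc]
        _ = h' ≫ ((V : Scheme.{u}).toSpecΓ ≫ (V : Scheme.{u}).isoSpec.inv) ≫ V.ι := by
            rw [e2]
            simp only [Category.assoc]
        _ = h := by
            rw [e3, Category.id_comp, hh']

end Sch

end Groth.Agent.Helper6.Pi0
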