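import Mathlib
import Groth.Agent.Lib.Helper4.ConnHartogs1
import Groth.Agent.Lib.Helper6.Pi0.P0A

/-!
# The étale scheme of connected components of a scheme locally of finite type over a field
(S16678)

`X` is the disjoint union of its connected components `X_c`, which are open.  For each of them
`P0A` provides a finite separable field extension `L_c` of `k` and a `k`-morphism
`X_c ⟶ Spec L_c`, initial among morphisms to étale `k`-schemes.  The scheme of connected components
is `∐ Spec L_c`.
-/

set_option autoImplicit false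
set_option linter.unusedSectionVars false
set_option linter.unusedVariables false
set_option linter.style.haveILetI false
set_option maxHeartbeats 800000
set_option synthInstance.maxHeartbeats 400000

open AlgebraicGeometry CategoryTheory Limits

namespace Groth.Agent.Helper6.Pi0

universe u

section Comp

variable (X : Scheme.{u})

/-- index type: the connected components of `X` -/
def Comp : Type u := {C : Set X // ∃ x : X, C = connectedComponent x}

/-- the component of a point -/
def compOf (x : X) : Comp X := ⟨connectedComponent x, x, rfl⟩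

variable [LocallyConnectedSpace X]

/-- a connected component as an open subset -/
def compOpen (C : Comp X) : X.Opens :=
  ⟨C.1, by
    obtain ⟨x, hx⟩ := C.2
    rw [hx]
    exact isOpen_connectedComponent⟩

theorem mem_compOpen_iff (C : Comp X) (x : X) : x ∈ compOpen X C ↔ compOf X x = C := by
  constructor
  · intro hx
    obtain ⟨x₀, hx₀⟩ := C.2
    have h1 : x ∈ connectedComponent x₀ := by
      rw [← hx₀]
      exact hx
    apply Subtype.ext
    show connectedComponent x = C.1
    rw [hx₀]
    exact (connectedComponent_eq h1).symm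
  · rintro rfl
    exact mem_connectedComponent

theorem mem_compOpen_compOf (x : X) : x ∈ compOpen X (compOf X x) :=
  (mem_compOpen_iff X _ x).2 rfl

theorem isOpenCover_compOpen : TopologicalSpace.IsOpenCover (compOpen X) := by
  show (⨆ C, compOpen X C) = ⊤
  apply eq_top_iff.2
  intro x _
  exact TopologicalSpace.Opens.mem_iSup.2 ⟨compOf X x, mem_compOpen_compOf X x⟩

theorem connectedSpace_compOpen (C : Comp X) : ConnectedSpace ↥(compOpen X C) := by
  have h1 : _root_.IsConnected ((compOpen X C : X.Opens) : Set X) := by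
    obtain ⟨x, hx⟩ := C.2
    show _root_.IsConnected C.1
    rw [hx]
    exact isConnected_connectedComponent
  exact isConnected_iff_connectedSpace.1 h1

end Comp

theorem S16678_main (k : Type u) [Field k]
    (X : Scheme.{u}) (f : X ⟶ Spec (CommRingCat.of k)) [LocallyOfFiniteType f] :
    ∃ (P : Scheme.{u}) (g : P ⟶ Spec (CommRingCat.of k)) (q : X ⟶ P), Etale g ∧ q ≫ g = f ∧
      (∀ (Y : Scheme.{u}) (gY : Y ⟶ Spec (CommRingCat.of k)) (h : X ⟶ Y), Etale gY → h ≫ gY = f →
        ∃! t : P ⟶ Y, t ≫ gY = g ∧ q ≫ t = h) ∧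
      Flat q ∧ Surjective q ∧
      ∀ x : ↥X, (fun x' : ↥X => q x') ⁻¹' {q x} = connectedComponent x := by
  haveI : IsLocallyNoetherian X := LocallyOfFiniteType.isLocallyNoetherian f
  haveI : LocallyConnectedSpace X :=
    Groth.Agent.Lib.Helper4.ConnHartogs1.locallyConnectedSpace_of_isLocallyNoetherian X
  haveI hconn : ∀ C : Comp X, ConnectedSpace ((compOpen X C : X.Opens) : Scheme.{u}) :=
    fun C => connectedSpace_compOpen X C
  have hD : ∀ C : Comp X, Nonempty (Pi0Data k (compOpen X C) ((compOpen X C).ι ≫ f)) :=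
    fun C => nonempty_pi0Data ((compOpen X C).ι ≫ f)
  obtain ⟨D⟩ : Nonempty (∀ C : Comp X, Pi0Data k (compOpen X C) ((compOpen X C).ι ≫ f)) :=
    ⟨fun C => (hD C).some⟩
  -- the scheme of components
  obtain ⟨F, hF⟩ : ∃ F : Comp X → Scheme.{u}, F = fun C => Spec (CommRingCat.of (D C).L) :=
    ⟨_, rfl⟩
  obtain ⟨sE, hsE⟩ : ∃ sE : ∀ C : Comp X, Spec (CommRingCat.of (D C).L) ⟶ Spec (CommRingCat.of k),
      sE = fun C => Spec.map (CommRingCat.ofHom (algebraMap k (D C).L)) := ⟨_, rfl⟩
  have hsEet : ∀ C, Etale (sE C) := by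
    intro C
    rw [hsE]
    show Etale (Spec.map (CommRingCat.ofHom (algebraMap k (D C).L)))
    rw [HasRingHomProperty.Spec_iff (P := @Etale)]
    show (algebraMap k (D C).L).Etale
    rw [RingHom.etale_algebraMap]
    haveI := (D C).fin
    haveI := (D C).sep
    haveI : Algebra.FormallyEtale k (D C).L := Algebra.FormallyEtale.of_isSeparable k (D C).L
    exact ⟨inferInstance, Algebra.FinitePresentation.of_finiteType.mp inferInstance⟩
  have hcov := isOpenCover_compOpen X
  obtain ⟨𝒰, h𝒰⟩ : ∃ 𝒰 : X.OpenCover, 𝒰 = X.openCoverOfIsOpenCover (compOpen X) hcov := ⟨_, rfl⟩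
  have hext : ∀ {Y : Scheme.{u}} (a b : X ⟶ Y),
      (∀ C, (compOpen X C).ι ≫ a = (compOpen X C).ι ≫ b) → a = b := by
    intro Y a b hab
    apply (X.openCoverOfIsOpenCover (compOpen X) hcov).hom_ext
    intro C
    exact hab C
  -- the glued morphism
  have hglue : ∀ C C' : Comp X,
      pullback.fst (compOpen X C).ι (compOpen X C').ι ≫ (D C).g ≫
        Sigma.ι (fun C => Spec (CommRingCat.of (D C).L)) C =
      pullback.snd (compOpen X C).ι (compOpen X C').ι ≫ (D C').g ≫
        Sigma.ι (fun C => Spec (CommRingCat.of (D C).L)) C' := by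
    intro C C'
    by_cases hCC : C = C'
    · subst hCC
      have h1 : pullback.fst (compOpen X C).ι (compOpen X C).ι =
          pullback.snd (compOpen X C).ι (compOpen X C).ι := by
        rw [← cancel_mono (compOpen X C).ι]
        exact pullback.condition
      rw [h1]
    · haveI : IsEmpty ↥(pullback (compOpen X C).ι (compOpen X C').ι) := by
        refine ⟨fun w => hCC ?_⟩
        have h1 : (compOpen X C).ι (pullback.fst (compOpen X C).ι (compOpen X C').ι w) =
            (compOpen X C').ι (pullback.snd (compOpen X C).ι (compOpen X C').ι w) := by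
          rw [← Scheme.Hom.comp_apply, ← Scheme.Hom.comp_apply, pullback.condition]
        have h2 : (compOpen X C).ι (pullback.fst (compOpen X C).ι (compOpen X C').ι w) ∈
            compOpen X C := (pullback.fst (compOpen X C).ι (compOpen X C').ι w).2
        have h3 : (compOpen X C').ι (pullback.snd (compOpen X C).ι (compOpen X C').ι w) ∈
            compOpen X C' := (pullback.snd (compOpen X C).ι (compOpen X C').ι w).2
        rw [← h1] at h3
        exact ((mem_compOpen_iff X C _).1 h2).symm.trans ((mem_compOpen_iff X C' _).1 h3)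
      exact (isInitialOfIsEmpty).hom_ext _ _
  obtain ⟨q, hq⟩ : ∃ q : X ⟶ ∐ fun C => Spec (CommRingCat.of (D C).L),
      ∀ C, (compOpen X C).ι ≫ q = (D C).g ≫
        Sigma.ι (fun C => Spec (CommRingCat.of (D C).L)) C :=
    ⟨(X.openCoverOfIsOpenCover (compOpen X) hcov).glueMorphisms
        (fun C => (D C).g ≫ Sigma.ι (fun C => Spec (CommRingCat.of (D C).L)) C) hglue,
      fun C => (X.openCoverOfIsOpenCover (compOpen X) hcov).ι_glueMorphisms _ hglue C⟩
  have hqapp : ∀ (C : Comp X) (z : ↥(compOpen X C)),
      q ((compOpen X C).ι z) = Sigma.ι (fun C => Spec (CommRingCat.of (D C).L)) C ((D C).g z) := by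
    intro C z
    rw [← Scheme.Hom.comp_apply, hq C, Scheme.Hom.comp_apply]
  refine ⟨∐ fun C => Spec (CommRingCat.of (D C).L), Sigma.desc sE, q, ?_, ?_, ?_, ?_, ?_, ?_⟩
  · exact IsZariskiLocalAtSource.sigmaDesc (P := @Etale) hsEet
  · apply hext
    intro C
    rw [← Category.assoc, hq C, Category.assoc, Sigma.ι_desc, hsE]
    exact (D C).comm
  · intro Y gY h hEt hcomm
    have hC : ∀ C : Comp X, ∃ t : Spec (CommRingCat.of (D C).L) ⟶ Y,
        t ≫ gY = Spec.map (CommRingCat.ofHom (algebraMap k (D C).L)) ∧
          (D C).g ≫ t = (compOpen X C).ι ≫ h := by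
      intro C
      exact (D C).up Y gY ((compOpen X C).ι ≫ h) hEt (by rw [Category.assoc, hcomm])
    choose tC htC1 htC2 using hC
    refine ⟨Sigma.desc tC, ⟨?_, ?_⟩, ?_⟩
    · apply Sigma.hom_ext
      intro C
      rw [← Category.assoc, Sigma.ι_desc, Sigma.ι_desc, htC1 C, hsE]
    · apply hext
      intro C
      rw [← Category.assoc, hq C, Category.assoc, Sigma.ι_desc, htC2 C]
    · rintro t' ⟨ht'1, ht'2⟩
      apply Sigma.hom_ext
      intro C
      rw [Sigma.ι_desc]
      apply (D C).epi
      rw [htC2 C, ← Category.assoc, ← hq C, Category.assoc, ht'2]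
  · rw [IsZariskiLocalAtSource.iff_of_openCover (P := @Flat)
      (X.openCoverOfIsOpenCover (compOpen X) hcov)]
    intro C
    show Flat ((compOpen X C).ι ≫ q)
    rw [hq C]
    infer_instance
  · refine ⟨fun p => ?_⟩
    obtain ⟨⟨C, pt⟩, rfl⟩ := (sigmaMk (fun C => Spec (CommRingCat.of (D C).L))).surjective p
    rw [sigmaMk_mk]
    obtain ⟨x₀, hx₀⟩ := C.2
    have hx₀C : x₀ ∈ compOpen X C := by
      show x₀ ∈ C.1
      rw [hx₀]
      exact mem_connectedComponent
    refine ⟨(compOpen X C).ι ⟨x₀, hx₀C⟩, ?_⟩
    rw [hqapp C ⟨x₀, hx₀C⟩]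
    congr 1
    exact Subsingleton.elim _ _
  · intro x
    ext x'
    simp only [Set.mem_preimage, Set.mem_singleton_iff]
    constructor
    · intro hqx
      have e1 := hqapp (compOf X x') ⟨x', mem_compOpen_compOf X x'⟩
      have e2 := hqapp (compOf X x) ⟨x, mem_compOpen_compOf X x⟩
      have e3 : Sigma.ι (fun C => Spec (CommRingCat.of (D C).L)) (compOf X x')
          ((D (compOf X x')).g ⟨x', mem_compOpen_compOf X x'⟩) =
          Sigma.ι (fun C => Spec (CommRingCat.of (D C).L)) (compOf X x)
          ((D (compOf X x)).g ⟨x, mem_compOpen_compOf X x⟩) := by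
        rw [← e1, ← e2]
        exact hqx
      rw [sigmaι_eq_iff] at e3
      have e4 : compOf X x' = compOf X x := congrArg Sigma.fst e3
      have e5 : connectedComponent x' = connectedComponent x := congrArg Subtype.val e4
      rw [← e5]
      exact mem_connectedComponent
    · intro hx'
      have hx'C : x' ∈ compOpen X (compOf X x) := hx'
      have e1 := hqapp (compOf X x) ⟨x', hx'C⟩
      have e2 := hqapp (compOf X x) ⟨x, mem_compOpen_compOf X x⟩
      have e3 : (D (compOf X x)).g ⟨x', hx'C⟩ = (D (compOf X x)).g ⟨x, mem_compOpen_compOf X x⟩ :=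
        Subsingleton.elim _ _
      show q x' = q x
      calc q x' = q ((compOpen X (compOf X x)).ι ⟨x', hx'C⟩) := rfl
        _ = q ((compOpen X (compOf X x)).ι ⟨x, mem_compOpen_compOf X x⟩) := by rw [e1, e2, e3]
        _ = q x := rfl

end Groth.Agent.Helper6.Pi0
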